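import Mathlib.LinearAlgebra.RootSystem.Base
import Mathlib.LinearAlgebra.RootSystem.Irreducible

set_option linter.unusedSectionVars false
set_option linter.unusedVariables false
set_option linter.unusedSimpArgs false
set_option autoImplicit false
set_option linter.style.haveILetI false
set_option maxHeartbeats 400000

/-!
# A combinatorial lemma on irreducible root systems

Given a partition of the simple roots into `I`, `A`, `B` with `A`, `B` non-empty there is a
positive root supported on `I ∪ B`, not in the span of `I`, pairing negatively with some simple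
coroot of `A`.
-/

namespace Groth.Agent.Helper6.RootCombLib

open Submodule Module

variable {ι : Type*} [Finite ι] [DecidableEq ι] {k : Type*} [Field k] [CharZero k]
  {M N : Type*} [AddCommGroup M] [Module k M] [AddCommGroup N] [Module k N]
  (P : RootPairing ι k M N)

/-- elements of the additive closure of a finite family are ℕ-combinations -/
lemma exists_nat_coeff (s : Finset ι) (m : M) (hm : m ∈ AddSubmonoid.closure (P.root '' s)) :
    ∃ f : ι → ℕ, m = ∑ j ∈ s, f j • P.root j := by
  classical
  refine AddSubmonoid.closure_induction ?_ ⟨0, by simp⟩ ?_ hm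
  · rintro - ⟨j, hj, rfl⟩
    refine ⟨Pi.single j 1, ?_⟩
    rw [Finset.sum_eq_single_of_mem j hj]
    · simp
    · intro i _ hij; simp [Pi.single_apply, hij]
  · rintro _ _ _ _ ⟨f, rfl⟩ ⟨g, rfl⟩
    exact ⟨f + g, by simp [add_smul, Finset.sum_add_distrib]⟩

/-- a positive element lying in the span of a subset of the simple roots is a non-negative
combination of that subset -/
lemma mem_closure_of_mem_span (b : P.Base) (T : Finset ι) (hT : T ⊆ b.support) (m : M)
    (hm : m ∈ AddSubmonoid.closure (P.root '' b.support))
    (hm' : m ∈ span k (P.root '' T)) : m ∈ AddSubmonoid.closure (P.root '' T) := by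
  classical
  obtain ⟨f, rfl⟩ := exists_nat_coeff P b.support m hm
  obtain ⟨g, hg, hg'⟩ := (Finsupp.mem_span_image_iff_linearCombination k).mp hm'
  let F : ι →₀ k := ∑ j ∈ b.support, Finsupp.single j (f j : k)
  have hF : F ∈ Finsupp.supported k k (b.support : Set ι) :=
    sum_mem (fun j hj => Finsupp.single_mem_supported k _ hj)
  have hFv : Finsupp.linearCombination k P.root F = ∑ j ∈ b.support, f j • P.root j := by
    simp only [F, map_sum, Finsupp.linearCombination_single, Nat.cast_smul_eq_nsmul]
  have hgS : g ∈ Finsupp.supported k k (b.support : Set ι) :=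
    Finsupp.supported_mono (by exact_mod_cast hT) hg
  have h0 : F - g = 0 :=
    (linearIndepOn_iff.mp b.linearIndepOn_root) (F - g) (sub_mem hF hgS)
      (by rw [map_sub, hFv, hg', sub_self])
  have hFg : F = g := sub_eq_zero.mp h0
  have hf0 : ∀ j ∈ b.support, j ∉ T → f j = 0 := by
    intro j hj hjT
    have h1 : F j = (f j : k) := by
      simp only [F, Finsupp.finsetSum_apply, Finsupp.single_apply]
      rw [Finset.sum_ite_eq' b.support j, if_pos hj]
    have h2 : g j = 0 := by
      rw [Finsupp.mem_supported'] at hg
      exact hg j (by exact_mod_cast hjT)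
    rw [hFg, h2] at h1
    exact_mod_cast h1.symm
  have hsum : ∑ j ∈ b.support, f j • P.root j = ∑ j ∈ T, f j • P.root j :=
    (Finset.sum_subset hT (fun j hj hjT => by rw [hf0 j hj hjT, zero_smul])).symm
  rw [hsum]
  exact sum_mem fun j hj => AddSubmonoid.nsmul_mem _
    (AddSubmonoid.subset_closure (Set.mem_image_of_mem P.root (Finset.mem_coe.mpr hj))) _

/-- a non-negative combination of simple roots pairs non-positively with any other simple
coroot -/
lemma pairingIn_le_zero_of_mem_closure [P.IsCrystallographic] (b : P.Base) (T : Finset ι)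
    (hT : T ⊆ b.support) (l : ι) (hl : l ∈ b.support) (hlT : l ∉ T) (j : ι)
    (hj : P.root j ∈ AddSubmonoid.closure (P.root '' T)) : P.pairingIn ℤ j l ≤ 0 := by
  have key : ∀ m ∈ AddSubmonoid.closure (P.root '' T),
      ∃ z : ℤ, z ≤ 0 ∧ (algebraMap ℤ k z) = P.coroot' l m := by
    intro m hm
    refine AddSubmonoid.closure_induction ?_ ⟨0, le_rfl, by simp⟩ ?_ hm
    · rintro - ⟨i, hi, rfl⟩
      refine ⟨P.pairingIn ℤ i l,
        b.pairingIn_le_zero_of_ne (by rintro rfl; exact hlT hi) (hT hi) hl, ?_⟩
      rw [P.algebraMap_pairingIn ℤ, P.root_coroot'_eq_pairing]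
    · rintro x y _ _ ⟨z, hz, hz'⟩ ⟨w, hw, hw'⟩
      exact ⟨z + w, by omega, by rw [map_add, map_add, hz', hw']⟩
  obtain ⟨z, hz, hz'⟩ := key _ hj
  rw [P.root_coroot'_eq_pairing, ← P.algebraMap_pairingIn ℤ] at hz'
  have := FaithfulSMul.algebraMap_injective ℤ k hz'
  omega

end Groth.Agent.Helper6.RootCombLib
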