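import Groth.Agent.Lib.Helper6.RootComb.Levi

set_option linter.unusedSectionVars false
set_option linter.unusedVariables false
set_option linter.unusedSimpArgs false
set_option autoImplicit false
set_option linter.style.haveILetI false
set_option maxHeartbeats 400000

namespace Groth.Agent.Helper6.RootCombLib

open Submodule Module

variable {ι : Type*} [Finite ι] [DecidableEq ι] {k : Type*} [Field k] [CharZero k]
  {M N : Type*} [AddCommGroup M] [Module k M] [AddCommGroup N] [Module k N]

theorem exists_root (P : RootPairing ι k M N) [P.IsCrystallographic] [P.IsReduced]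
    [P.IsIrreducible] (b : P.Base)
    (I A B : Finset ι) (hcover : I ∪ A ∪ B = b.support) (hIA : Disjoint I A)
    (hIB : Disjoint I B) (hAB : Disjoint A B) (hA : A.Nonempty) (hB : B.Nonempty) :
    ∃ l ∈ A, ∃ j : ι, P.root j ∈ AddSubmonoid.closure (P.root '' ↑(I ∪ B)) ∧
      P.root j ∉ Submodule.span k (P.root '' ↑I) ∧ P.pairingIn ℤ j l < 0 := by
  classical
  by_contra H
  push Not at H
  have hIs : I ⊆ b.support := by
    rw [← hcover]; intro x hx; simp [hx]
  have hAs : A ⊆ b.support := by
    rw [← hcover]; intro x hx; simp [hx]
  have hBs : B ⊆ b.support := by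
    rw [← hcover]; intro x hx; simp [hx]
  have hTs : I ∪ B ⊆ b.support := Finset.union_subset hIs hBs
  have hAT : ∀ l ∈ A, l ∉ I ∪ B := by
    intro l hl hlT
    rcases Finset.mem_union.mp hlT with h | h
    · exact Finset.disjoint_left.mp hIA h hl
    · exact Finset.disjoint_left.mp hAB hl h
  let G : Set ι := {j | P.root j ∈ span k (P.root '' ((I ∪ B : Finset ι) : Set ι)) ∧
    P.root j ∉ span k (P.root '' (I : Set ι))}
  let q : Submodule k M := span k (P.root '' G)
  -- simple roots of `B` are good
  have hBG : ∀ i ∈ B, i ∈ G := by
    intro i hi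
    refine ⟨subset_span (Set.mem_image_of_mem _ (by simp [hi])), ?_⟩
    have h1 := b.linearIndepOn_root.notMem_span (Finset.mem_coe.mpr (hBs hi))
    intro h2
    apply h1
    refine span_mono (Set.image_mono ?_) h2
    intro x hx
    refine ⟨Finset.mem_coe.mpr (hIs hx), ?_⟩
    rintro rfl
    exact Finset.disjoint_left.mp hIB hx hi
  -- good positive roots pair trivially with coroots of `A`
  have hpos : ∀ j ∈ G, P.root j ∈ AddSubmonoid.closure (P.root '' b.support) → ∀ l ∈ A,
      P.pairingIn ℤ j l = 0 := by
    intro j hj hjp l hl
    have h1 : P.root j ∈ AddSubmonoid.closure (P.root '' ((I ∪ B : Finset ι) : Set ι)) :=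
      mem_closure_of_mem_span P b (I ∪ B) hTs _ hjp hj.1
    have h2 := H l hl j h1 hj.2
    have h3 := pairingIn_le_zero_of_mem_closure P b (I ∪ B) hTs l (hAs hl) (hAT l hl) j h1
    omega
  have hpair : ∀ j ∈ G, ∀ l ∈ A, P.pairing j l = 0 := by
    intro j hj l hl
    rcases b.root_mem_or_neg_mem j with hjp | hjn
    · rw [← P.algebraMap_pairingIn ℤ, hpos j hj hjp l hl, map_zero]
    · have hj' : P.reflectionPerm j j ∈ G := by
        have e : P.root (P.reflectionPerm j j) = - P.root j := by
          rw [P.root_reflectionPerm, P.reflection_apply_self]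
        refine ⟨?_, ?_⟩
        · show P.root (P.reflectionPerm j j) ∈ _
          rw [e]; exact neg_mem hj.1
        · show P.root (P.reflectionPerm j j) ∉ _
          rw [e]; intro h; exact hj.2 (by simpa using neg_mem h)
      have e : P.root (P.reflectionPerm j j) = - P.root j := by
        rw [P.root_reflectionPerm, P.reflection_apply_self]
      have h1 := hpos _ hj' (by rw [e]; exact hjn) l hl
      have h2 : P.pairing (P.reflectionPerm j j) l = 0 := by
        rw [← P.algebraMap_pairingIn ℤ, h1, map_zero]
      rw [P.pairing_reflectionPerm_self_left] at h2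
      exact neg_eq_zero.mp h2
  -- invariance under simple reflections
  have hinv : ∀ i ∈ b.support, q ∈ End.invtSubmodule (P.reflection i) := by
    intro i hi
    rw [← hcover] at hi
    rcases Finset.mem_union.mp hi with hi' | hiB
    · rcases Finset.mem_union.mp hi' with hiI | hiA
      · -- `i ∈ I`
        rw [End.mem_invtSubmodule]
        refine span_le.mpr ?_
        rintro - ⟨j, hj, rfl⟩
        show P.reflection i (P.root j) ∈ q
        rw [← P.root_reflectionPerm]
        refine subset_span (Set.mem_image_of_mem _ ?_)
        have hri : P.root i ∈ span k (P.root '' (I : Set ι)) :=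
          subset_span (Set.mem_image_of_mem _ (Finset.mem_coe.mpr hiI))
        have hri' : P.root i ∈ span k (P.root '' ((I ∪ B : Finset ι) : Set ι)) :=
          subset_span (Set.mem_image_of_mem _ (by simp [hiI]))
        refine ⟨?_, ?_⟩
        · show P.root (P.reflectionPerm i j) ∈ _
          rw [P.root_reflectionPerm, P.reflection_apply_root]
          exact sub_mem hj.1 (smul_mem _ _ hri')
        · show P.root (P.reflectionPerm i j) ∉ _
          rw [P.root_reflectionPerm, P.reflection_apply_root]
          intro h
          apply hj.2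
          have := add_mem h (smul_mem _ (P.pairing j i) hri)
          simpa using this
      · -- `i ∈ A`
        rw [End.mem_invtSubmodule]
        refine span_le.mpr ?_
        rintro - ⟨j, hj, rfl⟩
        show P.reflection i (P.root j) ∈ q
        rw [P.reflection_apply_root, hpair j hj i hiA, zero_smul, sub_zero]
        exact subset_span (Set.mem_image_of_mem _ hj)
    · -- `i ∈ B`
      exact Submodule.mem_invtSubmodule_reflection_of_mem _ _
        (subset_span (Set.mem_image_of_mem _ (hBG i hiB)))
  have hinv' := (b.forall_mem_support_invtSubmodule_iff q).mp hinv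
  obtain ⟨b₀, hb₀⟩ := hB
  obtain ⟨l, hl⟩ := hA
  have hq0 : q ≠ ⊥ := by
    intro h
    have : P.root b₀ ∈ q := subset_span (Set.mem_image_of_mem _ (hBG b₀ hb₀))
    rw [h, Submodule.mem_bot] at this
    exact P.ne_zero b₀ this
  have hqtop : q = ⊤ :=
    RootPairing.IsIrreducible.eq_top_of_invtSubmodule_reflection q hinv' hq0
  have hker : q ≤ LinearMap.ker (P.coroot' l) := by
    refine span_le.mpr ?_
    rintro - ⟨j, hj, rfl⟩
    show P.coroot' l (P.root j) = 0
    rw [P.root_coroot'_eq_pairing]
    exact hpair j hj l hl
  have h2 : P.coroot' l (P.root l) = 0 := hker (hqtop ▸ Submodule.mem_top)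
  rw [P.root_coroot'_eq_pairing, P.pairing_same] at h2
  exact two_ne_zero h2

end Groth.Agent.Helper6.RootCombLib
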